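import Cfsg.Agent.Lib.TB.ActA

/-!
S1143 (docs/TB.md): the abstract Curtis–Tits theorem.  Model: `Chev/CT.lean` (`cj_nw_simple`,
`exists_Zr`, `nw_mem_H`).

`D i = (Z i).1 ⊔ (Z i).2`, `D i j = D i ⊔ D j` has `Loc` for all `i, j` (`Gr2.loc2`; every node has a
neighbour).  `m i ∈ D i` from `Gr2.exists_ov`.  `T i = D i ⊓ H × H'`, `T = ⨆ T i`.
`Zl i j k = D i j ⊓ U k × U' k` for `k ∈ Φ_{ij}`; `cj (m a) (Zl i j k) = Zl i j (s_a k)`; they are full graphs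
(`induction_inJ`), `Zl i j (± α_a) = (Z a).1, (Z a).2` (`Loc.mem_of_gr`).
* `T j` normalizes `(Z i).1`, `(Z i).2` (`Loc.mem_of_gr` in `D i j`), so `T` does, and
  `m i * τ * (m i)⁻¹ = τ * (τ⁻¹ * m i * τ * (m i)⁻¹) ∈ τ * T i`: `m i` normalizes `T`.
* Braid relations modulo `T`: for `k ∈ Φ_{ij}` let `τ k` be the class modulo `T` of an element of
  `Zl k ⊔ Zl (-k)` over `(refl k, refl k)`; it is well defined (`Zl k ⊔ Zl (-k)` is a conjugate of `D a`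
  by a product of `m`'s, which normalize `T`); `RootSys.wp_eq_one_of_pos` for `R.sub (pr i j)`, then
  `InvGen.exists_lift` as in `nw_mem_H`: `wp sref l = 1 → wp m l ∈ T`.
* Global root groups `Zr k` with `cj (wp m l) (Zl i j k) = Zr (wp sref l k)`, `Zr k ≤ U k × U' k`.
* `[Zr r, Zr s] ≤ ⨆ (k ∈ Cone r s), Zr k` for `s ≠ ± r`: by `exists_W_pair` in `D i j`; for the commutator
  `c` there is `y` in the right side with `y.1 = c.1` (`comm_mem`), `(y⁻¹ c).2 ∈ H' ⊓ US (cone)` is trivial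
  (`US_inf_H`; a chamber in `hf r ∩ hf s`: `exists_pair_std`).
* With `E = T ⊔ ⨆ (k > 0) Zr k ≤ B × B'`, the set `E (wp m l) E` is stable under left multiplication by
  `m i` and `E`: `E = Zr αᵢ * Eᵢ`, `Eᵢ = T ⊔ ⨆ (0 < k ≠ αᵢ) Zr k` normalized by `m i` and `Zr αᵢ`; for
  `1 ≠ z ∈ Zr αᵢ`, `m i * z * m i ∈ Zr αᵢ * m i * T * Zr αᵢ` (`exists_mu` for `-αᵢ`, `Gr2.ov`).
  So every element of `D = ⨆ D i` is `e * wp m l * e'`.
* If `(g, 1) ∈ D` then `(wp m l).2 ∈ B'`, `wp sW l = 1`, `g ∈ B`.  `{g | (g, 1) ∈ D}` is normal in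
  `G = GJ univ`, so trivial (`core`); symmetric.  `D` is the graph of an isomorphism.
-/

set_option autoImplicit false

namespace Cfsg.Lib.TB

open Cfsg.Lib.BN Cfsg.Lib.Chev RootSys
open scoped commutatorElement Pointwise

variable {ι Φ : Type} [Fintype ι] [DecidableEq ι] {R : RootSys ι Φ} [Fintype Φ]
variable {G G' : Type*} [Group G] [Group G'] {F : Fr G R} {F' : Fr G' R}

/-- `z` lies over `w` and permutes the global root groups like `w`. -/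
def Mw (F : Fr G R) (F' : Fr G' R) (Zr : Φ → Subgroup (G × G')) (w : R.W) (z : G × G') : Prop :=
  Nz F F' w z ∧ ∀ k, cj z (Zr k) = Zr (w.1 k)

section
variable {Zr : Φ → Subgroup (G × G')}

omit [Fintype Φ] in
theorem Mw.mul {v w : R.W} {x y : G × G'} (h : Mw F F' Zr v x) (h' : Mw F F' Zr w y) :
    Mw F F' Zr (v * w) (x * y) := ⟨h.1.mul h'.1, fun k => by rw [cj_mul, h'.2, h.2]; rfl⟩

omit [Fintype Φ] in
theorem Mw.inv {v : R.W} {x : G × G'} (h : Mw F F' Zr v x) : Mw F F' Zr v⁻¹ x⁻¹ :=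
  ⟨h.1.inv, fun k => cj_injective x (by
    rw [← cj_mul, mul_inv_cancel, cj_one, h.2]
    exact congrArg Zr (apply_inv _ _).symm)⟩

omit [Fintype Φ] in
theorem Mw.conj {v : R.W} {x : G × G'} (h : Mw F F' Zr v x) {A B : Set Φ}
    (hA : ∀ k ∈ A, v.1 k ∈ B) {y : G × G'} (hy : y ∈ ⨆ k ∈ A, Zr k) :
    x * y * x⁻¹ ∈ ⨆ k ∈ B, Zr k := by
  have : (⨆ k ∈ A, Zr k) ≤ (⨆ k ∈ B, Zr k).comap (MulAut.conj x).toMonoidHom :=
    iSup₂_le fun k hk z hz => le_iSup₂ (f := fun k (_ : k ∈ B) => Zr k) _ (hA k hk)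
      ((h.2 k).le (conj_mem_cj _ hz))
  exact this hy

end

/-- Bruhat decomposition of the group generated by the graphs. -/
theorem CTD.bruhat (X : CTD F F') {g : G × G'} (hg : g ∈ ⨆ i, X.D1 i) :
    ∃ u z u' : G × G', ∃ w, (u.1 • F.ch 1 = F.ch 1 ∧ u.2 • F'.ch 1 = F'.ch 1) ∧ Nz F F' w z ∧
      (u'.1 • F.ch 1 = F.ch 1 ∧ u'.2 • F'.ch 1 = F'.ch 1) ∧ g = u * z * u' := by
  obtain ⟨Zr, hgr, hZ, hcj, hcm⟩ := X.exists_rgd
  have hU : ∀ {k} {A : Set Φ}, k ∈ A → Zr k ≤ ⨆ k ∈ A, Zr k := fun {k A} hk =>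
    le_iSup₂ (f := fun k (_ : k ∈ A) => Zr k) k hk
  set Up := ⨆ k ∈ {k | R.IsPos k}, Zr k with hUp
  let S : Set (G × G') := {g | ∃ u ∈ Up, ∃ z w, Mw F F' Zr w z ∧ ∃ u' ∈ Up, g = u * z * u'}
  have s1 : ∀ x ∈ Up, ∀ g ∈ S, x * g ∈ S := by
    rintro x hx _ ⟨u, hu, z, w, hz, u', hu', rfl⟩
    exact ⟨x * u, mul_mem hx hu, z, w, hz, u', hu', by simp only [mul_assoc]⟩
  have s0 : ∀ {z w x u'}, Mw F F' Zr w z → u' ∈ Up → ∀ {k}, x ∈ Zr k → R.IsPos ((w⁻¹ : R.W).1 k) →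
      ∃ u'' ∈ Up, x * z * u' = z * u'' := fun {z w x u'} hz hu' k hx hk =>
    ⟨z⁻¹ * x * z⁻¹⁻¹ * u', mul_mem (hU (A := {k | R.IsPos k}) hk ((hz.inv.2 k).le
      (conj_mem_cj _ hx))) hu', by group⟩
  have s2 : ∀ i m, Mw F F' Zr (R.sW i) m → ∀ g ∈ S, m * g ∈ S := by
    rintro i m hm _ ⟨u, hu, z, w, hz, u', hu', rfl⟩
    set Ui := ⨆ k ∈ {k | R.IsPos k ∧ k ≠ R.simple i}, Zr k with hUi
    have n1 : Zr (R.simple i) ≤ Subgroup.normalizer (Ui : Set (G × G')) := by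
      have : ∀ x ∈ Zr (R.simple i), ∀ y ∈ Ui, x * y * x⁻¹ ∈ Ui := fun x hx => by
        change Ui ≤ Ui.comap (MulAut.conj x).toMonoidHom
        refine iSup₂_le fun k hk y hy => ?_
        have h1 : k ≠ R.neg (R.simple i) := fun e =>
          isPos_neg_iff.1 (e ▸ hk.1) (isPos_simple i)
        have h2 : (⨆ k' ∈ {k' | Cone R (R.simple i) k k'}, Zr k') ≤ Ui := iSup₂_le fun k' hk' =>
          hU (A := {k | R.IsPos k ∧ k ≠ R.simple i}) ⟨one_mem_hf.1 (Cone.mem_hf hk'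
            (one_mem_hf.2 (isPos_simple i)) (one_mem_hf.2 hk.1)), (Cone.ne hk' hk.2 h1).1⟩
        have h3 := mul_mem (h2 (hcm _ _ hk.2 h1 x hx y hy))
          (hU (A := {k | R.IsPos k ∧ k ≠ R.simple i}) hk hy)
        rw [commutatorElement_def, inv_mul_cancel_right] at h3
        exact h3
      exact fun x hx => Subgroup.mem_normalizer_iff.2 fun y => ⟨this x hx y, fun h => by
        simpa [mul_assoc] using this _ (inv_mem hx) _ h⟩
    have n2 : Up ≤ Ui ⊔ Zr (R.simple i) := iSup₂_le fun k hk => by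
      by_cases e : k = R.simple i
      · exact e ▸ le_sup_right
      · exact (hU (A := {k | R.IsPos k ∧ k ≠ R.simple i}) ⟨hk, e⟩).trans le_sup_left
    have n3 : u ∈ (Ui : Set (G × G')) * (Zr (R.simple i) : Set (G × G')) := by
      rw [← Subgroup.coe_mul_of_right_le_normalizer_left _ _ n1]
      exact n2 hu
    obtain ⟨a, ha, x, hx, rfl⟩ := n3
    have n4 : m * a * m⁻¹ ∈ Up := hm.conj (B := {k | R.IsPos k}) (fun k hk => hk.1.sref hk.2) ha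
    rw [show m * (a * x * z * u') = m * a * m⁻¹ * (m * (x * z * u')) by group]
    refine s1 _ n4 _ ?_
    by_cases hw : R.IsPos ((w⁻¹ : R.W).1 (R.simple i))
    · obtain ⟨u'', h1, h2⟩ := s0 hz hu' hx hw
      exact ⟨1, one_mem _, _, _, hm.mul hz, u'', h1, by rw [h2]; group⟩
    by_cases hx1 : x = 1
    · exact ⟨1, one_mem _, _, _, hm.mul hz, u', hu', by rw [hx1]; group⟩
    have y1 : m * x * m⁻¹ ∈ Zr (R.neg (R.simple i)) := by
      have := (hm.2 _).le (conj_mem_cj m hx)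
      rwa [coe_sW, sref_simple] at this
    have d1 : Zr (R.simple i) ≤ X.D1 i := (hZ i).1 ▸ le_sup_left
    have d2 : Zr (R.neg (R.simple i)) ≤ X.D1 i := (hZ i).2 ▸ le_sup_right
    have y2 : (m * x * m⁻¹).1 ≠ 1 := fun e => hx1 (by
      have h1 := Fr.U_inf_H X.hR ((hgr _).le _ y1).2 ((X.loc1 i _ (d2 y1)).2 e)
      have h2 : m * x * m⁻¹ = 1 := Prod.ext e h1
      simpa using h2)
    obtain ⟨v, hv, v', hv', e⟩ := Fr.exists_mu X.hR X.hM ((hgr _).le _ y1).1 y2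
    rw [R.neg_neg] at hv hv'
    obtain ⟨t, ht⟩ := (hgr _).left v hv
    obtain ⟨t', ht'⟩ := (hgr _).left v' hv'
    have y3 : (v, t) * (m * x * m⁻¹) * (v', t') ∈ X.D1 i :=
      mul_mem (mul_mem (d1 ht) (d2 y1)) (d1 ht')
    have y4 : F.Ov ((v, t) * (m * x * m⁻¹) * (v', t')).1 (R.sW i) := by
      rwa [show (⟨R.refl (R.neg (R.simple i)), R.refl_mem_W _⟩ : R.W) = R.sW i from
        Subtype.ext ((R.refl_neg _).trans (R.refl_simple _))] at e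
    have y5 : Nz F F' (R.sW i) _ := ⟨y4, (X.gr i).ov X.hR X.hM X.hM' (X.loc1 i) y3 (.inr rfl) y4⟩
    have y6 : Mw F F' Zr (R.sW i) _ := ⟨y5, hcj i _ y3 y5⟩
    obtain ⟨u'', h1, h2⟩ := s0 (hm.mul hz) hu' (inv_mem ht') (by
      rw [mul_inv_rev, sW_inv]
      show R.IsPos ((w⁻¹ : R.W).1 (R.sref i (R.simple i)))
      rwa [sref_simple, W_neg, isPos_neg_iff])
    refine ⟨(v, t)⁻¹, inv_mem (hU (A := {k | R.IsPos k}) (isPos_simple i) ht), _, _,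
      y6.mul (hm.mul hz), u'', h1, ?_⟩
    rw [mul_assoc (v, t)⁻¹, mul_assoc _ (m * z), ← h2]
    group
  let K : Subgroup (G × G') :=
    { carrier := {x | (∀ g ∈ S, x * g ∈ S) ∧ ∀ g ∈ S, x⁻¹ * g ∈ S}
      mul_mem' := fun {a b} ha hb => ⟨fun g hg => by rw [mul_assoc]; exact ha.1 _ (hb.1 _ hg),
        fun g hg => by rw [mul_inv_rev, mul_assoc]; exact hb.2 _ (ha.2 _ hg)⟩
      one_mem' := ⟨fun g hg => by simpa using hg, fun g hg => by simpa using hg⟩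
      inv_mem' := fun {a} ha => ⟨ha.2, by simpa using ha.1⟩ }
  have k1 : Up ≤ K := fun x hx => ⟨s1 x hx, s1 _ (inv_mem hx)⟩
  have k2 : (⨆ i, X.D1 i) ≤ K := iSup_le fun i => by
    have h1 : Mw F F' Zr (R.sW i) (X.m i) := ⟨X.ov i, hcj i _ (X.mem i) (X.ov i)⟩
    have h2 : X.m i ∈ K := ⟨s2 i _ h1, s2 i _ (sW_inv (R := R) i ▸ h1.inv)⟩
    have h3 : Zr (R.simple i) ≤ K := (hU (A := {k | R.IsPos k}) (isPos_simple i)).trans k1
    refine sup_le ((hZ i).1 ▸ h3) ?_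
    rw [← (hZ i).2, ← sref_simple, ← coe_sW, ← h1.2]
    rintro _ ⟨b, hb, rfl⟩
    exact mul_mem (mul_mem h2 (h3 hb)) (inv_mem h2)
  haveI : Nontrivial ι := Fintype.one_lt_card_iff_nontrivial.1 (by have := X.hR.three; omega)
  have k3 : Up ≤ (MulAction.stabilizer G (F.ch 1)).prod (MulAction.stabilizer G' (F'.ch 1)) :=
    iSup₂_le fun k hk z hz =>
      ⟨Fr.mem_Fx.1 (Fr.U_le_Fx k ((hgr k).le z hz).1) 1 (one_mem_hf.2 hk),
        Fr.mem_Fx.1 (Fr.U_le_Fx k ((hgr k).le z hz).2) 1 (one_mem_hf.2 hk)⟩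
  obtain ⟨u, hu, z, w, hz, u', hu', e⟩ := (k2 hg).1 1 ⟨1, one_mem _, 1, 1,
    ⟨nz_one, fun k => cj_one _⟩, 1, one_mem _, by simp⟩
  exact ⟨u, z, u', w, k3 hu, hz.1, k3 hu', by rw [← e, mul_one]⟩

omit [Fintype Φ] in
theorem Fr.Ov.fix_iff {u z u' : G} {w : R.W} (hu : u • F.ch 1 = F.ch 1) (hz : F.Ov z w)
    (hu' : u' • F.ch 1 = F.ch 1) : (u * z * u') • F.ch 1 = F.ch 1 ↔ w = 1 := by
  rw [mul_smul, mul_smul, hu', hz.smul_ch, mul_one]
  nth_rw 1 [← hu]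
  rw [smul_left_cancel_iff, Fr.ch_injective.eq_iff]

theorem CTD.fix_iff (X : CTD F F') {g : G × G'} (hg : g ∈ ⨆ i, X.D1 i) :
    g.1 • F.ch 1 = F.ch 1 ↔ g.2 • F'.ch 1 = F'.ch 1 := by
  obtain ⟨u, z, u', w, hu, hz, hu', rfl⟩ := X.bruhat hg
  exact (hz.1.fix_iff hu.1 hu'.1).trans (hz.2.fix_iff hu.2 hu'.2).symm

theorem act [IsSimpleGroup G] [IsSimpleGroup G'] (hR : Good R) (hM : F.Mo) (hM' : F'.Mo)
    (Z : ι → Subgroup (G × G') × Subgroup (G × G')) (h : ∀ i, Gr2 F F' i (Z i))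
    (hl : ∀ i j, i ≠ j → R.A i j ≠ 0 → Loc2 F F' (Z i) (Z j)) : Nonempty (G ≃* G') := by
  haveI : Nontrivial ι := Fintype.one_lt_card_iff_nontrivial.1 (by have := hR.three; omega)
  have l1 : ∀ i, Loc F.H F'.H ((Z i).1 ⊔ (Z i).2) := fun i => by
    obtain ⟨j, hj, hij⟩ : ∃ j, i ≠ j ∧ R.A i j ≠ 0 := by
      obtain ⟨k, hk⟩ := exists_ne i
      obtain ⟨_, rfl, j, hj, e⟩ := hR.conn {i} ⟨i, rfl⟩ ⟨k, hk⟩
      exact ⟨j, fun e => hj e.symm, e⟩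
    exact (hl i j hj hij).left
  have l2 : ∀ i j, Loc2 F F' (Z i) (Z j) := fun i j => by
    by_cases hij : i = j
    · subst hij
      exact (l1 i).mono (sup_idem _).le
    by_cases h0 : R.A i j = 0
    · exact (h i).loc2 hR hM hM' h0 (h j) (l1 i) (l1 j)
    exact hl i j hij h0
  choose m hm hm' using fun i => (h i).exists_ov hR hM hM' (l1 i)
  let X : CTD F F' := ⟨Z, m, hR, hM, hM', h, l2, hm, hm'⟩
  set D := ⨆ i, X.D1 i with hD
  have d1 : ∀ i, (Z i).1 ≤ D := fun i => le_sup_left.trans (le_iSup X.D1 i)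
  have d2 : ∀ i, (Z i).2 ≤ D := fun i => le_sup_right.trans (le_iSup X.D1 i)
  have s1 : ∀ g, ∃ g', (g, g') ∈ D := fun g => by
    have : F.GJ Set.univ ≤ D.map (MonoidHom.fst G G') := iSup₂_le fun i _ => sup_le
      (fun a ha => ((h i).pos.left a ha).elim fun b hb => ⟨_, d1 i hb, rfl⟩)
      fun a ha => ((h i).neg.left a ha).elim fun b hb => ⟨_, d2 i hb, rfl⟩
    obtain ⟨z, hz, rfl⟩ := this (Fr.GJ_univ hR hM ▸ Subgroup.mem_top g)
    exact ⟨z.2, hz⟩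
  have s2 : ∀ g', ∃ g, (g, g') ∈ D := fun g => by
    have : F'.GJ Set.univ ≤ D.map (MonoidHom.snd G G') := iSup₂_le fun i _ => sup_le
      (fun a ha => ((h i).pos.right a ha).elim fun b hb => ⟨_, d1 i hb, rfl⟩)
      fun a ha => ((h i).neg.right a ha).elim fun b hb => ⟨_, d2 i hb, rfl⟩
    obtain ⟨z, hz, rfl⟩ := this (Fr.GJ_univ hR hM' ▸ Subgroup.mem_top g)
    exact ⟨z.1, hz⟩
  have i1 : ∀ z ∈ D, z.2 = 1 → z.1 = 1 := fun z hz e => F.core _ fun c => by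
    obtain ⟨k, rfl⟩ := Fr.exists_smul_eq (F.ch 1) c
    obtain ⟨k', hk⟩ := s1 k
    have := (X.fix_iff (mul_mem (mul_mem (inv_mem hk) hz) hk)).2 (by simp [e])
    simpa [mul_smul, inv_smul_eq_iff] using this
  have i2 : ∀ z ∈ D, z.1 = 1 → z.2 = 1 := fun z hz e => F'.core _ fun c => by
    obtain ⟨k, rfl⟩ := Fr.exists_smul_eq (F'.ch 1) c
    obtain ⟨k', hk⟩ := s2 k
    have := (X.fix_iff (mul_mem (mul_mem (inv_mem hk) hz) hk)).1 (by simp [e])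
    simpa [mul_smul, inv_smul_eq_iff] using this
  have b1 : Function.Bijective ((MonoidHom.fst G G').comp D.subtype) :=
    ⟨(injective_iff_map_eq_one _).2 fun z hz => Subtype.ext (Prod.ext hz (i2 _ z.2 hz)),
      fun g => (s1 g).elim fun g' hg => ⟨⟨_, hg⟩, rfl⟩⟩
  have b2 : Function.Bijective ((MonoidHom.snd G G').comp D.subtype) :=
    ⟨(injective_iff_map_eq_one _).2 fun z hz => Subtype.ext (Prod.ext (i1 _ z.2 hz) hz),
      fun g => (s2 g).elim fun g' hg => ⟨⟨_, hg⟩, rfl⟩⟩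
  exact ⟨(MulEquiv.ofBijective _ b1).symm.trans (MulEquiv.ofBijective _ b2)⟩

end Cfsg.Lib.TB
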